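import Mathlib.CategoryTheory.Adjunction.Mates
import Mathlib.CategoryTheory.Abelian.GrothendieckAxioms.Basic
import Mathlib.CategoryTheory.Abelian.FunctorCategory
import Mathlib.Algebra.Homology.ShortComplex.Abelian
import Mathlib.CategoryTheory.Abelian.Refinements
import Mathlib.Algebra.Homology.ShortComplex.ExactFunctor

/-!
# Right adjoints of a right exact family of functors
-/

set_option autoImplicit false
universe w v u

open CategoryTheory Limits

namespace Groth.Agent.FPHomLib

variable {A : Type u} [Category.{v} A] [Abelian A]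
variable {LA LB LC RA RB RC : A ⥤ A} (adjA : LA ⊣ RA) (adjB : LB ⊣ RB) (adjC : LC ⊣ RC)

/-- Exactness in a functor category is pointwise. -/
theorem exact_of_eval {J : Type*} [Category J] (S : ShortComplex (J ⥤ A))
    (h : ∀ j, (S.map ((evaluation J A).obj j)).Exact) : S.Exact := by
  rw [S.exact_iff_isZero_homology]
  exact Functor.isZero _ fun j => IsZero.of_iso
    ((ShortComplex.exact_iff_isZero_homology _).1 (h j))
    (S.mapHomologyIso ((evaluation J A).obj j)).symm

variable (u : LA ⟶ LB) (p : LB ⟶ LC)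

theorem conj_symm_apply {L L' R R' : A ⥤ A} (adj : L ⊣ R) (adj' : L' ⊣ R') (α : L' ⟶ L)
    {T G : A} (x : T ⟶ R.obj G) :
    (adj'.homEquiv T G).symm (x ≫ (conjugateEquiv adj adj' α).app G) =
      α.app T ≫ (adj.homEquiv T G).symm x := by
  rw [Adjunction.homEquiv_counit, Adjunction.homEquiv_counit, Functor.map_comp, Category.assoc,
    conjugateEquiv_counit]
  exact (α.naturality_assoc x _)

/-- A right exact sequence of left adjoints gives a left exact sequence of right adjoints. -/
theorem leftExact_rightAdjoints (hup : u ≫ p = 0) (hp : ∀ T, Epi (p.app T))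
    (hcok : ∀ (T G : A) (a : LB.obj T ⟶ G), u.app T ≫ a = 0 → ∃ b, p.app T ≫ b = a) (G : A)
    (h0 : ∀ T : A, (adjA.homEquiv T G).symm 0 = 0) :
    ∃ w : (conjugateEquiv adjC adjB p).app G ≫ (conjugateEquiv adjB adjA u).app G = 0,
      Mono ((conjugateEquiv adjC adjB p).app G) ∧ (ShortComplex.mk _ _ w).Exact := by
  have w : (conjugateEquiv adjC adjB p).app G ≫ (conjugateEquiv adjB adjA u).app G = 0 := by
    apply (adjA.homEquiv _ G).symm.injective
    rw [conj_symm_apply, h0]
    conv_lhs => rw [← Category.id_comp ((conjugateEquiv adjC adjB p).app G)]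
    rw [conj_symm_apply, ← Category.assoc, ← NatTrans.comp_app, hup]
    simp
  have hm : Mono ((conjugateEquiv adjC adjB p).app G) := ⟨fun {Z} g h hgh => by
    apply (adjC.homEquiv Z G).symm.injective
    haveI := hp Z
    rw [← cancel_epi (p.app Z), ← conj_symm_apply adjC adjB, ← conj_symm_apply adjC adjB, hgh]⟩
  refine ⟨w, hm, ?_⟩
  rw [ShortComplex.exact_iff_exact_up_to_refinements]
  intro T x hx
  dsimp at hx
  obtain ⟨b, hb⟩ := hcok T G ((adjB.homEquiv T G).symm x) (by
    rw [← conj_symm_apply adjB adjA, hx, h0])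
  refine ⟨T, 𝟙 T, inferInstance, adjC.homEquiv T G b, ?_⟩
  apply (adjB.homEquiv T G).symm.injective
  dsimp
  rw [conj_symm_apply, Equiv.symm_apply_apply, hb, Category.id_comp]

/-- Left exact short five lemma. -/
theorem isIso_τ₁ {S₁ S₂ : ShortComplex A} (φ : S₁ ⟶ S₂) (h₁ : S₁.Exact) [Mono S₁.f]
    [Mono S₂.f] [IsIso φ.τ₂] [IsIso φ.τ₃] : IsIso φ.τ₁ := by
  let ψ : S₂.X₁ ⟶ S₁.X₁ := h₁.lift (S₂.f ≫ inv φ.τ₂) (by
    rw [← cancel_mono φ.τ₃, Category.assoc, Category.assoc, ← φ.comm₂₃, IsIso.inv_hom_id_assoc,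
      S₂.zero, zero_comp])
  have hψ : ψ ≫ S₁.f = S₂.f ≫ inv φ.τ₂ := h₁.lift_f _ _
  refine ⟨ψ, ?_, ?_⟩
  · rw [← cancel_mono S₁.f, Category.assoc, hψ, φ.comm₁₂_assoc]
    simp
  · rw [← cancel_mono S₂.f, Category.assoc, φ.comm₁₂, reassoc_of% hψ]
    simp

variable {J : Type w} [Category J] [HasColimitsOfShape J A]

/-- The comparison with a colimit is natural in the functor. -/
theorem post_natural (D : J ⥤ A) {F G : A ⥤ A} (a : F ⟶ G) :
    colimit.post D F ≫ a.app (colimit D) =
      colimMap (Functor.whiskerLeft D a) ≫ colimit.post D G :=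
  colimit.hom_ext fun j => by simp

variable [HasExactColimitsOfShape J A]

/-- A functor which is pointwise the kernel of a morphism of functors preserving filtered colimits
preserves filtered colimits. -/
theorem preservesColimit_of_leftExact (D : J ⥤ A) {F G H : A ⥤ A} (a : F ⟶ G) (b : G ⟶ H)
    (w : a ≫ b = 0) (hm : ∀ X, Mono (a.app X))
    (hex : ∀ X, (ShortComplex.mk (a.app X) (b.app X)
      (by rw [← NatTrans.comp_app, w]; rfl)).Exact)
    [PreservesColimit D G] [PreservesColimit D H] : PreservesColimit D F := by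
  suffices IsIso (colimit.post D F) from preservesColimit_of_isIso_post F D
  let S : ShortComplex (J ⥤ A) := ShortComplex.mk (Functor.whiskerLeft D a)
    (Functor.whiskerLeft D b) (by ext j; simpa using congr_app w (D.obj j))
  have hS : S.Exact := exact_of_eval S fun j => hex (D.obj j)
  haveI : ∀ j, Mono (S.f.app j) := fun j => hm (D.obj j)
  haveI : Mono S.f := NatTrans.mono_of_mono_app _
  haveI : PreservesFiniteLimits (colim : (J ⥤ A) ⥤ A) :=
    HasExactColimitsOfShape.preservesFiniteLimits
  haveI : (colim : (J ⥤ A) ⥤ A).Additive := Functor.additive_of_preserves_binary_products _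
  let S₁ := S.map (colim : (J ⥤ A) ⥤ A)
  have h₁ : S₁.Exact := hS.map_of_mono_of_preservesKernel colim inferInstance inferInstance
  haveI : Mono S₁.f := (colim : (J ⥤ A) ⥤ A).map_mono S.f
  let S₂ := ShortComplex.mk (a.app (colimit D)) (b.app (colimit D))
    (by rw [← NatTrans.comp_app, w]; rfl)
  haveI : Mono S₂.f := hm _
  let φ : S₁ ⟶ S₂ :=
    { τ₁ := colimit.post D F
      τ₂ := colimit.post D G
      τ₃ := colimit.post D H
      comm₁₂ := post_natural D a
      comm₂₃ := post_natural D b }
  haveI : IsIso φ.τ₂ := inferInstanceAs (IsIso (colimit.post D G))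
  haveI : IsIso φ.τ₃ := inferInstanceAs (IsIso (colimit.post D H))
  exact isIso_τ₁ φ h₁

end Groth.Agent.FPHomLib
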