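import Groth.Agent.FPHomLib.Main
import Groth.Agent.CohColim.Classes
import Groth.Agent.CohColim.Functors

/-!
# Global sections commute with filtered colimits when the final object has qc refinements
-/

set_option autoImplicit false
set_option linter.style.haveILetI false
universe u

open CategoryTheory Limits Opposite

namespace Groth.Agent.FPHomLib

noncomputable section

open Groth.Agent.ToposFinLib Groth.Agent.CohColim Groth.Agent.SiteBase ToposFin

variable {C : Type u} [SmallCategory C] {J : GrothendieckTopology C}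
variable (S : Set (Sh J))
    (hSa : ∀ F : Sh J, Epi (terminal.from F) → ∃ K ∈ S, Epi (terminal.from K) ∧ Nonempty (K ⟶ F))
    (hSb : ∀ K ∈ S, CohCx.IsQcObject (K ⨯ K))

include hSb in
theorem isQC_of_mem {K : Sh J} (hK : K ∈ S) : IsQC K := by
  haveI : IsSplitEpi (prod.fst : K ⨯ K ⟶ K) :=
    ⟨⟨prod.lift (𝟙 K) (𝟙 K), prod.lift_fst _ _⟩⟩
  exact isQC_of_epi (prod.fst : K ⨯ K ⟶ K) (isQC_of_isQcObject (hSb K hK))

include hSa hSb in
theorem isQC_terminal : IsQC (⊤_ (Sh J)) := by
  obtain ⟨K, hK, hKe, -⟩ := hSa (⊤_ (Sh J)) (by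
    rw [terminal.hom_ext (terminal.from (⊤_ (Sh J))) (𝟙 _)]
    infer_instance)
  exact isQC_of_epi (terminal.from K) (isQC_of_mem S hSb hK)

variable {Λ : Type u} [SmallCategory Λ] [IsFiltered Λ] (E : Λ ⥤ Sh J)

include hSa hSb in
theorem exists_factor_terminal (f : ⊤_ (Sh J) ⟶ colimit E) :
    ∃ (i : Λ) (f' : ⊤_ (Sh J) ⟶ E.obj i), f' ≫ colimit.ι E i = f := by
  classical
  obtain ⟨s, hs⟩ := IsQC.exists_finset (isQC_terminal S hSa hSb)
    (cov_pullback' (cov_colimit_ι E) f)
  obtain ⟨k, hk⟩ := IsFiltered.sup_objs_exists s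
  have u : ∀ a : s, a.1 ⟶ k := fun a => (hk a.2).some
  let g : (∐ fun a : s => pullback f (colimit.ι E a.1)) ⟶ ⊤_ (Sh J) :=
    Sigma.desc fun a => pullback.fst f (colimit.ι E a.1)
  have hg : Epi g := (cov_iff_epi _).1 hs
  have hg' : Epi (terminal.from (∐ fun a : s => pullback f (colimit.ι E a.1))) :=
    terminal.hom_ext g (terminal.from _) ▸ hg
  obtain ⟨K, hK, hKe, ⟨m⟩⟩ := hSa _ hg'
  have hm : Epi (m ≫ g) := terminal.hom_ext (terminal.from K) (m ≫ g) ▸ hKe
  let h : (∐ fun a : s => pullback f (colimit.ι E a.1)) ⟶ E.obj k :=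
    Sigma.desc fun a => pullback.snd f (colimit.ι E a.1) ≫ E.map (u a)
  have hh : h ≫ colimit.ι E k = g ≫ f := Sigma.hom_ext _ _ fun a => by
    simp only [h, g, colimit.ι_desc_assoc, Cofan.mk_ι_app, Category.assoc, colimit.w]
    exact pullback.condition.symm
  let e : pullback (m ≫ g) (m ≫ g) ≅ K ⨯ K :=
    { hom := prod.lift (pullback.fst _ _) (pullback.snd _ _)
      inv := pullback.lift prod.fst prod.snd (terminal.hom_ext _ _)
      hom_inv_id := pullback.hom_ext
        (by rw [Category.assoc, pullback.lift_fst, prod.lift_fst, Category.id_comp])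
        (by rw [Category.assoc, pullback.lift_snd, prod.lift_snd, Category.id_comp])
      inv_hom_id := Limits.prod.hom_ext
        (by rw [Category.assoc, prod.lift_fst, pullback.lift_fst, Category.id_comp])
        (by rw [Category.assoc, prod.lift_snd, pullback.lift_snd, Category.id_comp]) }
  have hP : IsQC (pullback (m ≫ g) (m ≫ g)) :=
    isQC_of_iso e.symm (isQC_of_isQcObject (hSb K hK))
  obtain ⟨j, v, hv⟩ := exists_eq_of_colimit_eq (D := E) hP
    (pullback.fst (m ≫ g) (m ≫ g) ≫ m ≫ h) (pullback.snd (m ≫ g) (m ≫ g) ≫ m ≫ h) (by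
      simp only [Category.assoc, hh]
      simpa only [Category.assoc] using
        congrArg (· ≫ f) (pullback.condition (f := m ≫ g) (g := m ≫ g)))
  have hcov : Cov (fun _ : PUnit.{u + 1} => m ≫ g) := fun Z a b e => (cancel_epi (m ≫ g)).1 (e ⟨⟩)
  obtain ⟨f', hf'⟩ := exists_glue hcov (fun _ => m ≫ h ≫ E.map v)
    (fun _ _ => by simpa only [Category.assoc] using hv)
  refine ⟨j, f', hcov _ _ _ fun _ => ?_⟩
  have h2 := hf' ⟨⟩
  beta_reduce at h2 ⊢
  rw [← Category.assoc, h2, Category.assoc, Category.assoc, colimit.w, hh, Category.assoc]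

include hSa hSb in
theorem preserves_hom_terminal :
    PreservesColimitsOfShape Λ (coyoneda.obj (op (⊤_ (Sh J)))) := by
  refine ⟨fun {E} => preservesColimit_of_preserves_colimit_cocone (colimit.isColimit E) ?_⟩
  refine Types.FilteredColimit.isColimitOf _ _ (fun x => ?_) fun i j xi xj h => ?_
  · obtain ⟨i, f', hf'⟩ := exists_factor_terminal S hSa hSb E x
    exact ⟨i, f', hf'.symm⟩
  · obtain ⟨k, a, b, -⟩ : ∃ (k : Λ) (_ : i ⟶ k) (_ : j ⟶ k), True :=
      ⟨_, IsFiltered.leftToMax i j, IsFiltered.rightToMax i j, trivial⟩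
    obtain ⟨l, v, hv⟩ := exists_eq_of_colimit_eq (D := E) (isQC_terminal S hSa hSb)
      (xi ≫ E.map a) (xj ≫ E.map b) (by
        rw [Category.assoc, Category.assoc, colimit.w, colimit.w]
        exact h)
    refine ⟨l, a ≫ v, b ≫ v, ?_⟩
    show xi ≫ E.map (a ≫ v) = xj ≫ E.map (b ≫ v)
    rw [E.map_comp, E.map_comp, ← Category.assoc, ← Category.assoc, hv]

end

end Groth.Agent.FPHomLib
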