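import Groth.Agent.FPHomLib.Global

/-!
# Hom out of a module of finite presentation and filtered colimits
-/

set_option autoImplicit false
set_option linter.style.haveILetI false
universe u

open CategoryTheory Limits Opposite

namespace Groth.Agent.FPHomLib

noncomputable section

open Groth.Agent.ToposFinLib Groth.Agent.CohColim Groth.Agent.SiteBase ToposFin
open Groth.Agent.ModTensor

variable {C : Type u} [SmallCategory C] {J : GrothendieckTopology C} (O : Sheaf J CommRingCat.{u})

/-- The sheaf of sets underlying a sheaf of modules. -/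
abbrev setSh : ModSite.Mod O ⥤ Sh J :=
  SheafOfModules.toSheaf (ModSite.ringSh O) ⋙ fSh J

/-- Global sections as maps from the point. -/
def ptHomEquiv (M : ModSite.Mod O) : M.sections ≃ (ptSh J ⟶ (setSh O).obj M) where
  toFun s := ObjectProperty.homMk
    { app := fun X => TypeCat.ofHom fun _ => s.val X
      naturality := fun X Y f => by
        ext x
        exact (s.property f).symm }
  invFun φ := PresheafOfModules.sectionsMk (fun X => φ.hom.app X PUnit.unit) (fun X Y f =>
    (congr($(φ.hom.naturality f) PUnit.unit)).symm)
  left_inv s := rfl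
  right_inv φ := rfl

/-- Global sections as maps from the terminal sheaf. -/
def unitHomIso : coyoneda.obj (op (ModSite.unit O)) ≅ setSh O ⋙ coyoneda.obj (op (⊤_ (Sh J))) :=
  NatIso.ofComponents (fun M => ((SheafOfModules.unitHomEquiv M).trans ((ptHomEquiv O M).trans
    (Iso.homCongr ((SiteBase.OpenQuot.isTerminalPt J).uniqueUpToIso terminalIsTerminal)
      (Iso.refl _)))).toIso)
    (fun {M N} p => by
      ext f
      dsimp
      apply Sheaf.hom_ext
      ext X x
      rfl)

/-- Maps out of a module are global sections of the internal hom. -/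
def homIso (F : ModSite.Mod O) [ModSite.HasSheafHom F] :
    coyoneda.obj (op F) ≅ ModSite.sheafHom F ⋙ coyoneda.obj (op (ModSite.unit O)) :=
  coyoneda.mapIso ((tensComm O (ModSite.unit O) F) ≪≫ (tensorUnitRight O).app F).op ≪≫
    NatIso.ofComponents (fun G => ((ModSite.sheafHomAdj F).homEquiv (ModSite.unit O) G).toIso)
      (fun {G G'} p => by
        ext f
        exact (ModSite.sheafHomAdj F).homEquiv_naturality_right f p)

theorem preservesColimit_hom {Λ : Type u} [SmallCategory Λ] [IsFiltered Λ] (S : Set (Sh J))
    (hSa : ∀ F : Sh J, Epi (terminal.from F) → ∃ K ∈ S, Epi (terminal.from K) ∧ Nonempty (K ⟶ F))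
    (hSb : ∀ K ∈ S, CohCx.IsQcObject (K ⨯ K))
    (F : ModSite.Mod O) [SheafOfModules.IsFinitePresentation (R := ModSite.ringSh O) F]
    (D : Λ ⥤ ModSite.Mod O) : PreservesColimit D (coyoneda.obj (op F)) := by
  haveI : ModSite.HasSheafHom F := hasSheafHom O F
  haveI := preservesColimit_sheafHom O F D
  haveI := preserves_hom_terminal (Λ := Λ) S hSa hSb
  haveI := preservesColimitsOfShape_forgetSh J Λ
  haveI : PreservesColimitsOfShape Λ (coyoneda.obj (op (ModSite.unit O))) :=
    preservesColimitsOfShape_of_natIso (unitHomIso O).symm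
  exact preservesColimit_of_natIso D (homIso O F).symm

end

end Groth.Agent.FPHomLib
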