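import Groth.Agent.FPHomLib.Exact
import Groth.Agent.FPLocal.Glue
import Groth.Agent.SiteBase.Projection
import Mathlib.CategoryTheory.Limits.Shapes.Biproducts
import Mathlib.CategoryTheory.Limits.ConeCategory

/-!
# Internal hom out of a module of finite presentation commutes with filtered colimits
-/

set_option autoImplicit false
set_option linter.style.haveILetI false
universe u

open CategoryTheory Limits Opposite

namespace Groth.Agent.FPHomLib

noncomputable section

variable {C : Type u} [SmallCategory C] {J : GrothendieckTopology C} (O : Sheaf J CommRingCat.{u})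

open Groth.Agent.ModTensor

variable {Λ : Type u} [SmallCategory Λ] [IsFiltered Λ]

/-- The component of `tensFree`. -/
def tfApp (ι : Type u) (T : ModSite.Mod O) :
    colimit ((Functor.const (Discrete ι)).obj T) ⟶
      ((ModSite.tensorBi O).obj T).obj (SheafOfModules.free ι : ModSite.Mod O) :=
  colimit.desc _ ⟨_, Discrete.natTrans fun i =>
    (tensorUnitRight O).inv.app T ≫
      ((ModSite.tensorBi O).obj T).map (Sigma.ι (fun _ : ι => ModSite.unit O) i.as)⟩

@[reassoc]
theorem ι_tfApp (ι : Type u) (T : ModSite.Mod O) (i : Discrete ι) :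
    colimit.ι ((Functor.const (Discrete ι)).obj T) i ≫ tfApp O ι T =
      (tensorUnitRight O).inv.app T ≫
        ((ModSite.tensorBi O).obj T).map (Sigma.ι (fun _ : ι => ModSite.unit O) i.as) :=
  colimit.ι_desc _ _

/-- `T ⊗ O^ι ⟵ ⨿_ι T`. -/
def tensFree (ι : Type u) :
    Functor.const (Discrete ι) ⋙ colim ⟶
      (ModSite.tensorBi O).flip.obj (SheafOfModules.free ι : ModSite.Mod O) where
  app T := tfApp O ι T
  naturality T T' f := colimit.hom_ext fun i => by
    show colimit.ι _ i ≫ colimMap ((Functor.const (Discrete ι)).map f) ≫ tfApp O ι T' =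
      colimit.ι _ i ≫ tfApp O ι T ≫ ((ModSite.tensorBi O).map f).app _
    rw [ι_colimMap_assoc, ι_tfApp, ι_tfApp_assoc]
    refine Eq.trans ?_ (congrArg ((tensorUnitRight O).inv.app T ≫ ·)
      (((ModSite.tensorBi O).map f).naturality _).symm)
    exact (tensorUnitRight O).inv.naturality_assoc f _

theorem isIso_tensFree (ι : Type u) : IsIso (tensFree O ι) := by
  refine (NatTrans.isIso_iff_isIso_app _).2 fun T => ?_
  let f := fun _ : ι => ModSite.unit O
  let G := (ModSite.tensorBi O).obj T
  let c : Cocone ((Functor.const (Discrete ι)).obj T) := ⟨_, Discrete.natTrans fun i =>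
    (tensorUnitRight O).inv.app T ≫ G.map (Sigma.ι f i.as)⟩
  have h1 : IsColimit (G.mapCocone (colimit.cocone (Discrete.functor f))) :=
    isColimitOfPreserves G (colimit.isColimit _)
  let w : Discrete.functor f ⋙ G ≅ (Functor.const (Discrete ι)).obj T :=
    Discrete.natIso fun _ => (tensorUnitRight O).app T
  have h2 : IsColimit c :=
    ((IsColimit.precomposeInvEquiv w _).symm h1).ofIsoColimit
      (Cocone.ext (Iso.refl _) (fun i => Category.comp_id _))
  exact inferInstanceAs (IsIso ((colimit.isColimit _).coconePointUniqueUpToIso h2).hom)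

theorem preserves_free (ι : Type u) [Finite ι] :
    PreservesColimitsOfShape Λ
      (ModSite.sheafHom (SheafOfModules.free ι : ModSite.Mod O)) := by
  haveI := isIso_tensFree O ι
  haveI : HasFiniteBiproducts (ModSite.Mod O) := HasFiniteBiproducts.of_hasFiniteProducts
  haveI : HasBiproductsOfShape ι (ModSite.Mod O) := hasBiproductsOfShape_finite _
  haveI : (Functor.const (Discrete ι) ⋙ colim (C := ModSite.Mod O)).IsLeftAdjoint :=
    ⟨_, ⟨(constLimAdj (J := Discrete ι) (C := ModSite.Mod O)).comp colimConstAdj⟩⟩
  let e : Functor.const (Discrete ι) ⋙ lim (C := ModSite.Mod O) ≅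
      ModSite.sheafHom (SheafOfModules.free ι : ModSite.Mod O) :=
    Adjunction.rightAdjointUniq
      (((constLimAdj (J := Discrete ι) (C := ModSite.Mod O)).comp colimConstAdj).ofNatIsoLeft
        (asIso (tensFree O ι)))
      (ModSite.sheafHomAdj (SheafOfModules.free ι : ModSite.Mod O))
  haveI : PreservesColimitsOfShape Λ
      (Functor.const (Discrete ι) ⋙ colim (C := ModSite.Mod O)) := by
    haveI := ((constLimAdj (J := Discrete ι) (C := ModSite.Mod O)).comp
      colimConstAdj).leftAdjoint_preservesColimits.{u, u}
    infer_instance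
  exact preservesColimitsOfShape_of_natIso
    ((Functor.isoWhiskerLeft _ HasBiproductsOfShape.colimIsoLim) ≪≫ e)

theorem conj_zero (F T G : ModSite.Mod O) [ModSite.HasSheafHom F] :
    ((ModSite.sheafHomAdj F).homEquiv T G).symm 0 = 0 := by
  haveI := additive_tensorBi_flip O F
  rw [Adjunction.homEquiv_counit, Functor.map_zero, zero_comp]

theorem preserves_of_presentation {F : ModSite.Mod O} [ModSite.HasSheafHom F]
    (P : SheafOfModules.Presentation F) [P.IsFinite] (D : Λ ⥤ ModSite.Mod O) :
    PreservesColimit D (ModSite.sheafHom F) := by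
  haveI : Finite P.generators.I := SheafOfModules.GeneratingSections.IsFiniteType.finite
  haveI : Finite P.relations.I := SheafOfModules.GeneratingSections.IsFiniteType.finite
  let A : ModSite.Mod O := SheafOfModules.free P.relations.I
  let B : ModSite.Mod O := SheafOfModules.free P.generators.I
  let π : B ⟶ F := P.generators.π
  let r : A ⟶ B := P.relations.π ≫ kernel.ι P.generators.π
  have w : r ≫ π = 0 := by simp [r, π]
  haveI : Epi π := inferInstanceAs (Epi P.generators.π)
  have hex : (ShortComplex.mk r π w).Exact := by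
    rw [ShortComplex.exact_iff_epi_kernel_lift]
    have h : kernel.lift π r w = P.relations.π := by
      rw [← cancel_mono (kernel.ι π), kernel.lift_ι]
    show Epi (kernel.lift π r w)
    rw [h]
    infer_instance
  let u := (ModSite.tensorBi O).flip.map r
  let p := (ModSite.tensorBi O).flip.map π
  have hup : u ≫ p = 0 := by
    ext T : 2
    show ((ModSite.tensorBi O).obj T).map r ≫ ((ModSite.tensorBi O).obj T).map π = _
    rw [← Functor.map_comp, w, Functor.map_zero]
    rfl
  have hpc : ∀ T, PreservesFiniteColimits ((ModSite.tensorBi O).obj T) := fun T =>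
    (preservesColimitsOfSize_shrink.{0, u, 0, u} ((ModSite.tensorBi O).obj T)) |> fun _ =>
      ⟨fun _ _ _ => inferInstance⟩
  have hp : ∀ T, Epi (p.app T) := fun T => by
    haveI := hpc T
    show Epi (((ModSite.tensorBi O).obj T).map π)
    infer_instance
  have hcok : ∀ (T G : ModSite.Mod O) (a : ((ModSite.tensorBi O).flip.obj B).obj T ⟶ G),
      u.app T ≫ a = 0 → ∃ b, p.app T ≫ b = a := fun T G a ha => by
    haveI := hpc T
    let S := (ShortComplex.mk r π w).map ((ModSite.tensorBi O).obj T)
    have hS : S.Exact := hex.map_of_epi_of_preservesCokernel _ inferInstance inferInstance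
    haveI : Epi S.g := hp T
    exact ⟨hS.desc a ha, hS.g_desc a ha⟩
  have hlx := fun G => leftExact_rightAdjoints (ModSite.sheafHomAdj A) (ModSite.sheafHomAdj B)
    (ModSite.sheafHomAdj F) u p hup hp hcok G fun T => conj_zero O A T G
  haveI := preserves_free (Λ := Λ) O P.generators.I
  haveI := preserves_free (Λ := Λ) O P.relations.I
  exact preservesColimit_of_leftExact D
    (conjugateEquiv (ModSite.sheafHomAdj F) (ModSite.sheafHomAdj B) p)
    (conjugateEquiv (ModSite.sheafHomAdj B) (ModSite.sheafHomAdj A) u)
    (NatTrans.ext (funext fun G => (hlx G).1))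
    (fun G => (hlx G).2.1) (fun G => (hlx G).2.2)

/-- The internal hom out of a module of finite presentation commutes with filtered colimits. -/
theorem preservesColimit_sheafHom (F : ModSite.Mod O) [ModSite.HasSheafHom F]
    [SheafOfModules.IsFinitePresentation (R := ModSite.ringSh O) F] (D : Λ ⥤ ModSite.Mod O) :
    PreservesColimit D (ModSite.sheafHom F) := by
  suffices IsIso (colimit.post D (ModSite.sheafHom F)) from preservesColimit_of_isIso_post _ D
  set φ := colimit.post D (ModSite.sheafHom F) with hφdef
  have hloc : ∀ X : C, ∃ S ∈ J X, ∀ ⦃W : C⦄ (g : W ⟶ X), S g →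
      Function.Bijective (φ.val.app (op W)).hom := by
    intro X
    obtain ⟨S, hS, h⟩ := FPLocal.exists_sieve_presentation (R := ModSite.ringSh O) F X
    refine ⟨S, hS, fun W g hg => ?_⟩
    obtain ⟨P, hP⟩ := h g hg
    haveI : SheafOfModules.Presentation.IsFinite (M := (ModSite.restr O W).obj F) P := hP
    haveI : ModSite.HasSheafHom ((ModSite.restr O W).obj F) := hasSheafHom (O.over W) _
    haveI : PreservesColimitsOfSize.{u, u} (ModSite.restr O W) :=
      inferInstanceAs (PreservesColimitsOfSize.{u, u}
        (SheafOfModules.overFunctor (ModSite.ringSh O) W))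
    haveI : PreservesColimit (D ⋙ ModSite.restr O W)
        (ModSite.sheafHom ((ModSite.restr O W).obj F)) :=
      preserves_of_presentation (O.over W) P _
    haveI : PreservesColimit D (ModSite.sheafHom F ⋙ ModSite.restr O W) :=
      preservesColimit_of_natIso D (SiteBase.ExtZeroPre.restrSheafHomIso O W F).symm
    haveI : IsIso (colimit.post (D ⋙ ModSite.sheafHom F) (ModSite.restr O W) ≫
        (ModSite.restr O W).map φ) := by
      rw [hφdef, colimit.post_post]
      infer_instance
    haveI : IsIso ((ModSite.restr O W).map φ) :=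
      IsIso.of_isIso_comp_left (colimit.post (D ⋙ ModSite.sheafHom F) (ModSite.restr O W)) _
    exact ConcreteCategory.bijective_of_isIso
      (((SheafOfModules.forget _ ⋙ PresheafOfModules.evaluation _ (op (Over.mk (𝟙 W)))).map
        ((ModSite.restr O W).map φ)))
  refine FPLocal.isIso_of_locally φ (fun V n => ?_) (fun V m hm => ?_)
  · obtain ⟨S, hS, h⟩ := hloc V
    exact ⟨S, hS, fun W g hg => (h g hg).2 _⟩
  · obtain ⟨S, hS, h⟩ := hloc V
    refine ⟨S, hS, fun W g hg => (h g hg).1 ?_⟩
    exact (FPLocal.app_mres φ g m).trans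
      ((congrArg _ hm).trans ((map_zero _).trans (map_zero _).symm))

end

end Groth.Agent.FPHomLib
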